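import Groth.Agent.Clifford24.SmoothFamily
import Groth.Agent.AmpleLib.Relative2
import Groth.Agent.Desc19b.AmpleFpqc
import Groth.Agent.ThetaLib.Effective
import Groth.Agent.MorProj.FinFree
import Groth.Agent.MorProj.OmegaAffine
import Groth.Agent.CurveRR24.DegOneApps
import Groth.Agent.Omega15.Geometry
import Groth.Agent.S0080
import Groth.Agent.S12128

/-! Morphisms whose sheaf of differentials, or its dual, is relatively ample: base change and descent. -/

set_option autoImplicit false
set_option linter.style.haveILetI false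
set_option backward.isDefEq.respectTransparency.types false
set_option backward.isDefEq.respectTransparency false

universe u

open CategoryTheory CategoryTheory.Limits AlgebraicGeometry Opposite TopologicalSpace
open Groth.Agent Groth.Agent.AmpleLib

namespace Groth.Agent.Desc24

variable {X S X' S' : Scheme.{u}}

/-- `Ω` commutes with base change. -/
theorem nonempty_pullback_omega {a : X' ⟶ X} {f' : X' ⟶ S'} {f : X ⟶ S} {g : S' ⟶ S}
    (sq : IsPullback a f' f g) [QuasiSeparated f] :
    Nonempty ((Scheme.Modules.pullback a).obj (Omega.sheaf f) ≅ Omega.sheaf f') := by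
  haveI : QuasiSeparated f' := MorphismProperty.of_isPullback (P := @QuasiSeparated) sq inferInstance
  obtain ⟨c, hc, -⟩ := Omega15.existsUnique_compat a g sq.w.symm
    (OmegaLib.isUniversal_dOmega f) (OmegaSh.dOmega f')
  haveI := Omega15.isIso_of_isPullback sq (OmegaLib.isUniversal_dOmega f) (OmegaLib.isUniversal_dOmega f') hc
  exact ⟨asIso c⟩

/-- A chosen inverse, or the module itself. -/
noncomputable def tw : Bool → X.Modules → X.Modules
  | true, L => L
  | false, L => RefHull.dual L

theorem isInvertible_dual {L : X.Modules} (hL : PicF.IsInvertible L) : PicF.IsInvertible (RefHull.dual L) := by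
  obtain ⟨e⟩ := VarietyLib.isInverseOf_dual hL
  exact PicLib.PicM.isInvertible_of_tensor hL (glocus_isInvertible_of_iso e.symm isInvertible_structureModule)

theorem isInvertible_tw (b : Bool) {L : X.Modules} (hL : PicF.IsInvertible L) : PicF.IsInvertible (tw b L) := by
  cases b
  · exact isInvertible_dual hL
  · exact hL

/-- Inverses are unique. -/
theorem nonempty_inverse_unique {L M M' : X.Modules} (hL : PicF.IsInvertible L) (hM : PicF.IsInvertible M)
    (hM' : PicF.IsInvertible M') (e : CohB1.tensorMod L M ≅ Coh.structureModule X)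
    (e' : CohB1.tensorMod L M' ≅ Coh.structureModule X) : Nonempty (M ≅ M') := by
  obtain ⟨a, -⟩ := exists_assocIso hM hL hM'
  exact ⟨(tensorComm M (Coh.structureModule X) ≪≫ unitTensorIso M).symm ≪≫ tensorIso (Iso.refl M) e'.symm ≪≫ a.symm ≪≫
    tensorIso (tensorComm M L ≪≫ e) (Iso.refl M') ≪≫ unitTensorIso M'⟩

theorem nonempty_pullback_tw (a : X' ⟶ X) (b : Bool) {L : X.Modules} {L' : X'.Modules} (hL : PicF.IsInvertible L)
    (e : (Scheme.Modules.pullback a).obj L ≅ L') :
    Nonempty ((Scheme.Modules.pullback a).obj (tw b L) ≅ tw b L') := by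
  cases b
  · have hp := PicLoc.isInvertible_pullback a hL
    have hL' : PicF.IsInvertible L' := glocus_isInvertible_of_iso e hp
    obtain ⟨c⟩ := VarietyLib.isInverseOf_dual hL
    obtain ⟨c'⟩ := VarietyLib.isInverseOf_dual hL'
    obtain ⟨t⟩ := exists_pullTensorIso a hL (isInvertible_dual hL)
    obtain ⟨o⟩ := exists_pullStructureIso a
    exact nonempty_inverse_unique hL' (PicLoc.isInvertible_pullback a (isInvertible_dual hL))
      (isInvertible_dual hL')
      (tensorIso e.symm (Iso.refl _) ≪≫ t.symm ≪≫ (Scheme.Modules.pullback a).mapIso c ≪≫ o) c'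
  · exact ⟨e⟩

/-- `Ω` is invertible and `Ω` (`b = true`) or its dual (`b = false`) is relatively ample. -/
def HasAmpleOmega (b : Bool) (f : X ⟶ S) : Prop :=
  PicF.IsInvertible (Omega.sheaf f) ∧ RelAmple.IsRelAmple f (tw b (Omega.sheaf f))

theorem isRelAmple_of_iso' {f : X ⟶ S} {L M : X.Modules} (e : L ≅ M) (h : RelAmple.IsRelAmple f L) :
    RelAmple.IsRelAmple f M := by
  rw [isRelAmple_iff] at h ⊢
  exact ⟨h.1, fun V => isAmple_of_iso ((Scheme.Modules.pullback _).mapIso e) (h.2 V)⟩

theorem HasAmpleOmega.isSeparated {b : Bool} {f : X ⟶ S} (h : HasAmpleOmega b f) : IsSeparated f :=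
  MorProj.isSeparated_of_isRelAmple f _ h.2

theorem HasAmpleOmega.baseChange {b : Bool} {a : X' ⟶ X} {f' : X' ⟶ S'} {f : X ⟶ S} {g : S' ⟶ S}
    (sq : IsPullback a f' f g) (h : HasAmpleOmega b f) : HasAmpleOmega b f' := by
  haveI := h.isSeparated
  haveI : QuasiCompact f := h.2.1
  obtain ⟨e⟩ := nonempty_pullback_omega sq
  refine ⟨glocus_isInvertible_of_iso e (PicLoc.isInvertible_pullback a h.1), ?_⟩
  obtain ⟨e'⟩ := nonempty_pullback_tw a b h.1 e
  refine isRelAmple_of_iso' e' ?_
  have h1 := isRelAmple_baseChange f g h.2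
  let ψ := sq.isoPullback
  have h2 := isRelAmple_pullback_of_isEmbedding (pullback.snd f g) ψ.hom ψ.hom.isOpenEmbedding.isEmbedding h1
  rw [IsPullback.isoPullback_hom_snd] at h2
  refine isRelAmple_of_iso' ((Scheme.Modules.pullbackComp ψ.hom (pullback.fst f g)).app _ ≪≫
    (Scheme.Modules.pullbackCongr (IsPullback.isoPullback_hom_fst sq)).app _) h2

theorem HasAmpleOmega.descend {b : Bool} {f : X ⟶ S} (g : S' ⟶ S) [QuasiCompact g] [Flat g] [Surjective g]
    (h : HasAmpleOmega b (pullback.snd f g)) : HasAmpleOmega b f := by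
  haveI := h.isSeparated
  haveI := S0080.result.{u}
  haveI : QuasiSeparated f :=
    MorphismProperty.of_pullback_snd_of_descendsAlong (P := @QuasiSeparated)
      (Q := @Surjective ⊓ @Flat ⊓ @QuasiCompact) (g := g)
      ⟨⟨inferInstance, inferInstance⟩, inferInstance⟩ inferInstance
  obtain ⟨e⟩ := nonempty_pullback_omega (IsPullback.of_hasPullback f g)
  haveI : Coh.IsQCoh (Omega.sheaf f) := MorProj.isQCoh_omega f
  haveI : Surjective (pullback.fst f g) := MorphismProperty.pullback_fst _ _ inferInstance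
  haveI : Flat (pullback.fst f g) := MorphismProperty.pullback_fst _ _ inferInstance
  haveI : QuasiCompact (pullback.fst f g) := MorphismProperty.pullback_fst _ _ inferInstance
  have hΩ : PicF.IsInvertible (Omega.sheaf f) :=
    ThetaLib.isInvertible_of_fpqc (pullback.fst f g) _ (glocus_isInvertible_of_iso e.symm h.1)
  obtain ⟨e'⟩ := nonempty_pullback_tw (pullback.fst f g) b hΩ e
  exact ⟨hΩ, Desc19b.isRelAmple_of_baseChange f (isInvertible_tw b hΩ) g (isRelAmple_of_iso' e'.symm h.2)⟩

theorem HasAmpleOmega.of_openCover {b : Bool} {f : X ⟶ S} {ι : Type u} (U : ι → S.Opens) (hU : ⨆ i, U i = ⊤)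
    (h : ∀ i, HasAmpleOmega b (pullback.snd f (U i).ι)) : HasAmpleOmega b f := by
  have h' : ∀ i, HasAmpleOmega b (f ∣_ U i) := fun i =>
    HasAmpleOmega.baseChange (a := (pullbackRestrictIsoRestrict f (U i)).inv) (g := 𝟙 _)
      (IsPullback.of_horiz_isIso ⟨by simp [morphismRestrict]⟩) (h i)
  haveI : IsSeparated f := IsZariskiLocalAtTarget.of_iSup_eq_top U hU fun i => (h' i).isSeparated
  haveI : QuasiCompact f := IsZariskiLocalAtTarget.of_iSup_eq_top U hU fun i => (h' i).2.1
  have he : ∀ i, Nonempty ((Scheme.Modules.pullback (f ⁻¹ᵁ U i).ι).obj (Omega.sheaf f) ≅ Omega.sheaf (f ∣_ U i)) :=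
    fun i => nonempty_pullback_omega (isPullback_morphismRestrict f (U i)).flip
  have hΩ : PicF.IsInvertible (Omega.sheaf f) := isInvertible_of_pullback_opens fun x => by
    obtain ⟨i, hi⟩ := Opens.mem_iSup.1 (show f x ∈ ⨆ i, U i by rw [hU]; trivial)
    exact ⟨f ⁻¹ᵁ U i, hi, glocus_isInvertible_of_iso (he i).some.symm (h' i).1⟩
  refine ⟨hΩ, (isRelAmple_iff_of_openCover U hU).2 fun i => ?_⟩
  obtain ⟨e'⟩ := nonempty_pullback_tw _ b hΩ (he i).some
  exact isRelAmple_of_iso' e'.symm (h' i).2

/-- Families of curves of genus `g ≠ 1`. -/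
theorem exists_hasAmpleOmega (f : X ⟶ S) [IsProper f] [Smooth f] [GeometricallyConnected f]
    (hdim : ∀ s : S, topologicalKrullDim ↥(f.fiber s) = 1) (g : ℕ) (hg : g ≠ 1)
    (hgen : ∀ s : S, letI := Clifford24.fibreOver f s; Curv2.genus (S.residueField s) (f.fiber s) = g) :
    ∃ b, HasAmpleOmega b f := by
  have hΩ := Clifford24.isInvertible_omega_family f hdim
  refine ⟨decide (2 ≤ g), hΩ, (S12128.result f _ (isInvertible_tw _ hΩ)).2 fun s => ?_⟩
  let k := S.residueField s
  let _ := Clifford24.fibreOver f s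
  haveI : IsProper (f.fiber s ↘ Spec (CommRingCat.of k)) := Clifford24.isProper_fibre f s
  haveI : Smooth (f.fiber s ↘ Spec (CommRingCat.of k)) := Clifford24.smooth_fibre f s
  haveI : GeometricallyIntegral (f.fiber s ↘ Spec (CommRingCat.of k)) := Clifford24.geomIntegral_fibre f s
  haveI := Clifford24.isIntegral_fibre f s
  let ω := Omega.sheaf (f.fiber s ↘ Spec (CommRingCat.of k))
  have hω : PicF.IsInvertible ω := OmegaDual24.isInvertible_omega (k := k) (hdim s)
  have hdeg : Curv2.deg k (f.fiber s) ω 1 = 2 * (g : ℤ) - 2 := by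
    rw [OmegaDual24.deg_omega k (hdim s), hgen s]
  obtain ⟨eω⟩ := Clifford24.nonempty_omega_fibre f s
  obtain ⟨e⟩ := nonempty_pullback_tw (f.fiberι s) (decide (2 ≤ g)) hΩ eω
  refine isAmple_of_iso e.symm (CurveRR24.isAmple_of_deg_pos k (hdim s) (isInvertible_tw _ hω) ?_)
  by_cases h2 : 2 ≤ g
  · rw [decide_eq_true h2]
    show 0 < Curv2.deg k (f.fiber s) ω 1
    omega
  · rw [decide_eq_false h2]
    obtain ⟨c⟩ := VarietyLib.isInverseOf_dual hω
    show 0 < Curv2.deg k (f.fiber s) (RefHull.dual ω) 1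
    rw [CurveRR24.deg_inverse k (hdim s).le hω (isInvertible_dual hω) c]
    omega

end Groth.Agent.Desc24
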