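import Groth.Agent.Desc19b.ZariskiRefine

/-! Descent data along an fpqc refinement of a family, effective over each member, come from the coarse family. -/

set_option autoImplicit false
set_option linter.style.haveILetI false
set_option backward.isDefEq.respectTransparency false
set_option backward.isDefEq.respectTransparency.types false

universe u

open CategoryTheory CategoryTheory.Limits AlgebraicGeometry Desc

namespace Groth.Agent.Desc24.Refine

open Groth.Agent.Desc19b Groth.Agent.Desc19b.ZariskiRefine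

variable {S : Scheme.{u}} {ι κ : Type u} {U : ι → Scheme.{u}} {V : κ → Scheme.{u}} {u₀ : ∀ i, U i ⟶ S}
  {v : ∀ j, V j ⟶ S} {α : ι → κ} {g : ∀ i, U i ⟶ V (α i)} (w : ∀ i, g i ≫ v (α i) = u₀ i)

/-- Schemes are sheaves for fpqc coverings. -/
theorem isSheafFor_of_mem {T : Scheme.{u}} {σ : Type u} {P : σ → Scheme.{u}} {π : ∀ p, P p ⟶ T}
    (h : Presieve.ofArrows P π ∈ Scheme.fpqcPrecoverage T) (Z : Scheme.{u}) :
    Presieve.IsSheafFor (yoneda.obj Z) (Presieve.ofArrows P π) :=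
  (GrothendieckTopology.Subcanonical.isSheaf_of_isRepresentable (J := Scheme.fpqcTopology) (yoneda.obj Z)).isSheafFor _
    (Precoverage.generate_mem_toGrothendieck h)

/-- Morphisms equal on an fpqc covering are equal. -/
theorem hom_ext_of_mem {T : Scheme.{u}} {σ : Type u} {P : σ → Scheme.{u}} {π : ∀ p, P p ⟶ T}
    (h : Presieve.ofArrows P π ∈ Scheme.fpqcPrecoverage T) {Z : Scheme.{u}} (m n : T ⟶ Z)
    (he : ∀ p, π p ≫ m = π p ≫ n) : m = n := by
  obtain ⟨t, -, hu⟩ := (Presieve.isSheafFor_arrows_iff _ _).1 (isSheafFor_of_mem h Z) (fun p => π p ≫ m)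
    fun p p' W g₁ g₂ e => by
      show g₁ ≫ π p ≫ m = g₂ ≫ π p' ≫ m
      rw [reassoc_of% e]
  exact (hu m fun p => rfl).trans (hu n fun p => (he p).symm).symm

variable (hcov : ∀ j, Presieve.ofArrows (fun i : {i // α i = j} => U i.1) (gj g j) ∈ Scheme.fpqcPrecoverage (V j))

include w in
theorem exists_lifts_equiv (D' : SchDDFam u₀) (j : κ) (heff : (restr w D' j).IsEffective) :
    ∃ (W : Over (V j)) (E : ∀ {T : Scheme.{u}} (i : {i // α i = j}) (r : T ⟶ U i.1) (x : T ⟶ V j),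
        r ≫ gj g j i = x → (Lifts W x ≃ Lifts (D'.obj i.1) r)),
      (∀ {T T' : Scheme.{u}} (k : T' ⟶ T) (i : {i // α i = j}) (r : T ⟶ U i.1) (x : T ⟶ V j)
        (hx : r ≫ gj g j i = x) (x' : T' ⟶ V j) (hx' : (k ≫ r) ≫ gj g j i = x') (t : Lifts W x)
        (t' : Lifts W x'), t'.1 = k ≫ t.1 → (E i (k ≫ r) x' hx' t').1 = k ≫ (E i r x hx t).1) ∧
      (∀ {T : Scheme.{u}} (i i' : {i // α i = j}) (r : T ⟶ U i.1) (r' : T ⟶ U i'.1) (x : T ⟶ V j)
        (hx : r ≫ gj g j i = x) (hx' : r' ≫ gj g j i' = x) (h : r ≫ u₀ i.1 = r' ≫ u₀ i'.1) (t : Lifts W x),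
        D'.φ r r' h (E i r x hx t) = E i' r' x hx' t) := by
  obtain ⟨W, ⟨e⟩⟩ := heff
  let E : ∀ {T : Scheme.{u}} (i : {i // α i = j}) (r : T ⟶ U i.1) (x : T ⟶ V j),
      r ≫ gj g j i = x → (Lifts W x ≃ Lifts (D'.obj i.1) r) := fun {T} i r x hx =>
    { toFun := fun t => e.hom.push (x := r)
        (⟨pullback.lift r t.1 (hx.trans t.2.symm), pullback.lift_fst _ _ _⟩ :
          Lifts (((toDDFam (gj g j)).obj W).obj i) r)
      invFun := fun s => ⟨(e.inv.push (x := r) s).1 ≫ pullback.snd (gj g j i) W.hom, by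
        have h1 : (e.inv.push (x := r) s).1 ≫ pullback.fst (gj g j i) W.hom = r := (e.inv.push (x := r) s).2
        rw [Category.assoc, ← pullback.condition, reassoc_of% h1, hx]⟩
      left_inv := fun t => Subtype.ext (by
        have h1 : (e.hom.hom i).left ≫ (e.inv.hom i).left = 𝟙 _ :=
          (Over.comp_left _ _ _ (e.hom.hom i) (e.inv.hom i)).symm.trans
            (congrArg (fun c : (toDDFam (gj g j)).obj W ⟶ (toDDFam (gj g j)).obj W => (c.hom i).left) e.hom_inv_id)
        simp only [SchDDFam.Hom.push, Category.assoc]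
        erw [reassoc_of% h1, pullback.lift_snd])
      right_inv := fun s => Subtype.ext (by
        have h1 : (e.inv.hom i).left ≫ (e.hom.hom i).left = 𝟙 _ :=
          (Over.comp_left _ _ _ (e.inv.hom i) (e.hom.hom i)).symm.trans
            (congrArg (fun c : restr w D' j ⟶ restr w D' j => (c.hom i).left) e.inv_hom_id)
        simp only [SchDDFam.Hom.push]
        rw [show pullback.lift r ((s.1 ≫ (e.inv.hom i).left) ≫ pullback.snd (gj g j i) W.hom) _ =
          s.1 ≫ (e.inv.hom i).left from pullback.hom_ext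
            ((pullback.lift_fst _ _ _).trans (e.inv.push (x := r) s).2.symm) (pullback.lift_snd _ _ _)]
        rw [Category.assoc, h1]
        exact Category.comp_id _) }
  refine ⟨W, E, fun {T T'} k i r x hx x' hx' t t' ht => ?_, fun {T} i i' r r' x hx hx' h t => ?_⟩
  · show pullback.lift _ _ _ ≫ _ = k ≫ pullback.lift _ _ _ ≫ _
    rw [← Category.assoc k]
    refine congrArg (· ≫ (e.hom.hom i).left) ?_
    apply pullback.hom_ext <;> simp [ht]
  · let z : Lifts (((toDDFam (gj g j)).obj W).obj i) r :=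
      ⟨pullback.lift r t.1 (hx.trans t.2.symm), pullback.lift_fst _ _ _⟩
    have h1 := e.hom.comm r r' (hx.trans hx'.symm) z (e.hom.push z) rfl
    refine Subtype.ext (h1.trans ?_)
    show _ ≫ (e.hom.hom i').left = pullback.lift _ _ _ ≫ (e.hom.hom i').left
    refine congrArg (· ≫ (e.hom.hom i').left) ?_
    simp only [toDDFam, canonicalDDFam, Equiv.coe_fn_mk, canMapFam_val, z]
    congr 1
    exact pullback.lift_snd _ _ _

include w hcov in
theorem exists_preimage (D' : SchDDFam u₀) (heff : ∀ j, (restr w D' j).IsEffective) : ∃ D : SchDDFam v, Nonempty (PullRefine.PD w D ≅ D') := by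
  choose W E hnat hcomp using fun j => exists_lifts_equiv w D' j (heff j)
  -- the forced value
  have hu : ∀ {T : Scheme.{u}} {j j' : κ} (x : T ⟶ V j) (y : T ⟶ V j'), x ≫ v j = y ≫ v j' →
      ∀ (i : {i // α i = j}) (i' : {i // α i = j'}) (r : T ⟶ U i.1) (r' : T ⟶ U i'.1),
      r ≫ gj g j i = x → r' ≫ gj g j' i' = y → r ≫ u₀ i.1 = r' ≫ u₀ i'.1 := by
    intro T j j' x y h i i' r r' hr hr'
    rw [← gj_v w j i, ← gj_v w j' i', ← Category.assoc, hr, ← Category.assoc, hr', h]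
  let val : ∀ {T : Scheme.{u}} {j j' : κ} (x : T ⟶ V j) (y : T ⟶ V j') (_ : x ≫ v j = y ≫ v j')
      (i : {i // α i = j}) (i' : {i // α i = j'}) (r : T ⟶ U i.1) (r' : T ⟶ U i'.1),
      r ≫ gj g j i = x → r' ≫ gj g j' i' = y → Lifts (W j) x → Lifts (W j') y :=
    fun x y h i i' r r' hr hr' t => (E _ i' r' y hr').symm (D'.φ r r' (hu x y h i i' r r' hr hr') (E _ i r x hr t))
  have val_indep : ∀ {T : Scheme.{u}} {j j' : κ} (x : T ⟶ V j) (y : T ⟶ V j') (h : x ≫ v j = y ≫ v j') i i' r r'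
      (hr : r ≫ gj g j i = x) (hr' : r' ≫ gj g j' i' = y) l l' s s' (hs : s ≫ gj g j l = x)
      (hs' : s' ≫ gj g j' l' = y) (t : Lifts (W j) x),
      val x y h i i' r r' hr hr' t = val x y h l l' s s' hs hs' t := by
    intro T j j' x y h i i' r r' hr hr' l l' s s' hs hs' t
    simp only [val]
    rw [Equiv.eq_symm_apply, ← hcomp j' i' l' r' s' y hr' hs' (hu y y rfl i' l' r' s' hr' hs'), Equiv.apply_symm_apply,
      ← hcomp j i l r s x hr hs (hu x x rfl i l r s hr hs) t, D'.φ_comp, D'.φ_comp]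
  have val_nat : ∀ {T T' : Scheme.{u}} (k : T' ⟶ T) {j j' : κ} (x : T ⟶ V j) (y : T ⟶ V j')
      (h : x ≫ v j = y ≫ v j') i i' r r' (hr : r ≫ gj g j i = x) (hr' : r' ≫ gj g j' i' = y) x' y'
      (h' : x' ≫ v j = y' ≫ v j') (hk : (k ≫ r) ≫ gj g j i = x') (hk' : (k ≫ r') ≫ gj g j' i' = y')
      (t : Lifts (W j) x) (t' : Lifts (W j) x'), t'.1 = k ≫ t.1 →
      (val x' y' h' i i' (k ≫ r) (k ≫ r') hk hk' t').1 = k ≫ (val x y h i i' r r' hr hr' t).1 := by
    intro T T' k j j' x y h i i' r r' hr hr' x' y' h' hk hk' t t' ht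
    have hy' : k ≫ y = y' := by rw [← hr', ← hk', Category.assoc]
    let s : Lifts (W j') y' := ⟨k ≫ (val x y h i i' r r' hr hr' t).1, by rw [Category.assoc, (val x y h i i' r r' hr hr' t).2, hy']⟩
    have h1 : E j' i' (k ≫ r') y' hk' s = D'.φ _ _ (hu x' y' h' i i' _ _ hk hk') (E j i (k ≫ r) x' hk t') := by
      apply Subtype.ext
      rw [hnat j' k i' r' y hr' y' hk' (val x y h i i' r r' hr hr' t) s rfl]
      simp only [val, Equiv.apply_symm_apply]
      exact (D'.φ_natural k r r' _ (k ≫ r) (k ≫ r') rfl rfl _ _ _ (hnat j k i r x hr x' hk t t' ht)).symm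
    show ((E j' i' (k ≫ r') y' hk').symm (D'.φ _ _ (hu x' y' h' i i' _ _ hk hk') (E j i (k ≫ r) x' hk t'))).1 = s.1
    rw [← h1, Equiv.symm_apply_apply]
  -- the transported bijections
  let Rel : ∀ {T : Scheme.{u}} {j j' : κ} (x : T ⟶ V j) (y : T ⟶ V j') (_ : x ≫ v j = y ≫ v j'),
      Lifts (W j) x → Lifts (W j') y → Prop := fun {T j j'} x y h t t' =>
    ∀ {T' : Scheme.{u}} (k : T' ⟶ T) i i' r r' (hr : r ≫ gj g j i = k ≫ x) (hr' : r' ≫ gj g j' i' = k ≫ y),
      k ≫ t'.1 = (val (k ≫ x) (k ≫ y) (by rw [Category.assoc, h, Category.assoc]) i i' r r' hr hr' (rst k t)).1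
  have existsUnique_rel : ∀ {T : Scheme.{u}} {j j' : κ} (x : T ⟶ V j) (y : T ⟶ V j') (h : x ≫ v j = y ≫ v j')
      (t : Lifts (W j) x), ∃! t', Rel x y h t t' := by
    intro T j j' x y h t
    let A : {i // α i = j} → Scheme.{u} := fun i => pullback (gj g j i) x
    let a : ∀ i, A i ⟶ T := fun i => pullback.snd (gj g j i) x
    let B : ∀ (_ : {i // α i = j}), {i // α i = j'} → Scheme.{u} := fun i i' => pullback (gj g j' i') (a i ≫ y)
    let b : ∀ i i', B i i' ⟶ A i := fun i i' => pullback.snd (gj g j' i') (a i ≫ y)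
    have hA : Presieve.ofArrows A a ∈ Scheme.fpqcPrecoverage T :=
      Precoverage.mem_coverings_of_isPullback (gj g j) (hcov j) x _ (fun i => pullback.fst (gj g j i) x)
        fun i => (IsPullback.of_hasPullback (gj g j i) x).flip
    have hB : ∀ i, Presieve.ofArrows (B i) (b i) ∈ Scheme.fpqcPrecoverage (A i) := fun i =>
      Precoverage.mem_coverings_of_isPullback (gj g j') (hcov j') (a i ≫ y) _
        (fun i' => pullback.fst (gj g j' i') (a i ≫ y))
        fun i' => (IsPullback.of_hasPullback (gj g j' i') (a i ≫ y)).flip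
    let G : ((_ : {i // α i = j}) × {i // α i = j'}) → Scheme.{u} := fun p => B p.1 p.2
    let π : ∀ p, G p ⟶ T := fun p => b p.1 p.2 ≫ a p.1
    have hmem : Presieve.ofArrows G π ∈ Scheme.fpqcPrecoverage T := Precoverage.comp_mem_coverings a hA b hB
    let r : ∀ p, G p ⟶ U p.1.1 := fun p => b p.1 p.2 ≫ pullback.fst (gj g j p.1) x
    let r' : ∀ p, G p ⟶ U p.2.1 := fun p => pullback.fst (gj g j' p.2) (a p.1 ≫ y)
    have hr : ∀ p, r p ≫ gj g j p.1 = π p ≫ x := fun p => by
      simp only [r, π, a, Category.assoc, pullback.condition]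
    have hr' : ∀ p, r' p ≫ gj g j' p.2 = π p ≫ y := fun p => by
      simp only [r', π, b, Category.assoc, pullback.condition]
    let val0 : ∀ p, Lifts (W j') ((π p) ≫ y) := fun p =>
      val ((π p) ≫ x) ((π p) ≫ y) (by rw [Category.assoc, h]; simp [π, Category.assoc]) p.1 p.2 (r p) (r' p) (hr p) (hr' p)
        (rst (π p) t)
    have restrict : ∀ {T' : Scheme.{u}} (p : (_ : {i // α i = j}) × {i // α i = j'}) (l : T' ⟶ G p) (k : T' ⟶ T),
        l ≫ (π p) = k → ∀ i i' s s' (hs : s ≫ gj g j i = k ≫ x) (hs' : s' ≫ gj g j' i' = k ≫ y),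
        l ≫ (val0 p).1 =
          (val (k ≫ x) (k ≫ y) (by simp only [Category.assoc, h]) i i' s s' hs hs' (rst k t)).1 := by
      intro T' p l k hl i i' s s' hs hs'
      subst hl
      have hG : ((π p) ≫ x) ≫ v j = ((π p) ≫ y) ≫ v j' := by simp only [Category.assoc, h]
      have hh : ((l ≫ (π p)) ≫ x) ≫ v j = ((l ≫ (π p)) ≫ y) ≫ v j' := by simp only [Category.assoc, h]
      have hk : (l ≫ r p) ≫ gj g j p.1 = (l ≫ (π p)) ≫ x := by rw [Category.assoc, hr]; simp [π, Category.assoc]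
      have hk' : (l ≫ r' p) ≫ gj g j' p.2 = (l ≫ (π p)) ≫ y := by rw [Category.assoc, hr']; simp [π, Category.assoc]
      exact (val_nat l _ _ hG p.1 p.2 _ _ (hr p) (hr' p) _ _ hh hk hk' (rst (π p) t) (rst (l ≫ (π p)) t)
        (Category.assoc _ _ _)).symm.trans
        (congrArg Subtype.val (val_indep _ _ hh p.1 p.2 _ _ hk hk' i i' s s' hs hs' _))
    have hcompat : ∀ (p p') (T' : Scheme.{u}) (g₁ : T' ⟶ G p) (g₂ : T' ⟶ G p'), g₁ ≫ π p = g₂ ≫ π p' →
        g₁ ≫ (val0 p).1 = g₂ ≫ (val0 p').1 := by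
      intro p p' T' g₁ g₂ e
      have hs : (g₁ ≫ r p) ≫ gj g j p.1 = (g₁ ≫ π p) ≫ x := by rw [Category.assoc, hr]; simp [π, Category.assoc]
      have hs' : (g₁ ≫ r' p) ≫ gj g j' p.2 = (g₁ ≫ π p) ≫ y := by rw [Category.assoc, hr']; simp [π, Category.assoc]
      exact (restrict p g₁ _ rfl p.1 p.2 _ _ hs hs').trans (restrict p' g₂ _ e.symm p.1 p.2 _ _ hs hs').symm
    obtain ⟨m, hm, -⟩ := (Presieve.isSheafFor_arrows_iff _ _).1 (isSheafFor_of_mem hmem (W j').left)
      (fun p => (val0 p).1) hcompat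
    replace hm : ∀ p, π p ≫ m = (val0 p).1 := hm
    refine ⟨⟨m, hom_ext_of_mem hmem _ _ fun p => ?_⟩, ?_, ?_⟩
    · rw [reassoc_of% (hm p)]
      exact (val0 p).2
    · intro T' k i i' s s' hs hs'
      have hpull : Presieve.ofArrows (fun p => pullback (π p) k) (fun p => pullback.snd (π p) k) ∈
          Scheme.fpqcPrecoverage T' :=
        Precoverage.mem_coverings_of_isPullback π hmem k _ (fun p => pullback.fst (π p) k)
          fun p => (IsPullback.of_hasPullback (π p) k).flip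
      refine hom_ext_of_mem hpull _ _ fun p => ?_
      let l := pullback.snd (π p) k
      have hl : pullback.fst (π p) k ≫ π p = l ≫ k := pullback.condition
      have hk2 : (l ≫ s) ≫ gj g j i = (l ≫ k) ≫ x := by rw [Category.assoc, hs]; simp
      have hk3 : (l ≫ s') ≫ gj g j' i' = (l ≫ k) ≫ y := by rw [Category.assoc, hs']; simp
      show l ≫ k ≫ m = l ≫ _
      rw [← Category.assoc, ← hl, Category.assoc, hm, restrict p _ _ hl i i' _ _ hk2 hk3]
      exact val_nat l (k ≫ x) (k ≫ y) (by simp only [Category.assoc, h]) i i' s s' hs hs' _ _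
        (by simp only [Category.assoc, h]) hk2 hk3 (rst k t) (rst _ t) (Category.assoc _ _ _)
    · intro t' ht'
      refine Subtype.ext (hom_ext_of_mem hmem _ _ fun p => ?_)
      show π p ≫ t'.1 = π p ≫ m
      rw [hm, ht' (π p) p.1 p.2 (r p) (r' p) (hr p) (hr' p)]
  have rel_symm : ∀ {T : Scheme.{u}} {j j' : κ} (x : T ⟶ V j) (y : T ⟶ V j') (h : x ≫ v j = y ≫ v j')
      (t : Lifts (W j) x) (t' : Lifts (W j') y), Rel x y h t t' → Rel y x h.symm t' t := by
    intro T j j' x y h t t' hR T' k i i' r r' hr hr'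
    have hh : (k ≫ x) ≫ v j = (k ≫ y) ≫ v j' := by rw [Category.assoc, h, Category.assoc]
    have h1 : rst k t' = val (k ≫ x) (k ≫ y) hh i' i r' r hr' hr (rst k t) :=
      Subtype.ext (hR k i' i r' r hr' hr)
    show (rst k t).1 = _
    rw [h1]
    simp only [val, Equiv.apply_symm_apply, D'.φ_comp, D'.φ_self, Equiv.symm_apply_apply]
  choose φ hφ hφu using @existsUnique_rel
  have φ_eq : ∀ {T : Scheme.{u}} {j j' : κ} (x : T ⟶ V j) (y : T ⟶ V j') (h : x ≫ v j = y ≫ v j')
      (t : Lifts (W j) x) (t' : Lifts (W j') y), Rel x y h t t' → φ x y h t = t' :=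
    fun x y h t t' hR => (hφu x y h t t' hR).symm
  let D : SchDDFam v :=
    { obj := W
      φ := fun T j j' x y h =>
        { toFun := φ x y h
          invFun := φ y x h.symm
          left_inv := fun t => φ_eq y x h.symm (φ x y h t) t (rel_symm x y h t (φ x y h t) (hφ x y h t))
          right_inv := fun t => φ_eq x y h (φ y x h.symm t) t (rel_symm y x h.symm t (φ y x h.symm t) (hφ y x h.symm t)) }
      φ_natural := fun T T' k j j' x y h x' y' hx hy h' t t' ht => by
        subst hx hy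
        refine congrArg Subtype.val (φ_eq _ _ h' t' (rst k (φ x y h t)) fun {T''} l i i' r r' hr hr' => ?_)
        show l ≫ k ≫ (φ x y h t).1 = _
        rw [← Category.assoc, hφ x y h t (l ≫ k) i i' r r' (by rw [hr, Category.assoc]) (by rw [hr', Category.assoc])]
        have hx2 : (𝟙 T'' ≫ r) ≫ gj g j i = l ≫ k ≫ x := by rw [Category.id_comp, hr]
        have hy2 : (𝟙 T'' ≫ r') ≫ gj g j' i' = l ≫ k ≫ y := by rw [Category.id_comp, hr']
        have hh : (l ≫ k ≫ x) ≫ v j = (l ≫ k ≫ y) ≫ v j' := by simp only [Category.assoc, h]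
        have e := val_nat (𝟙 T'') ((l ≫ k) ≫ x) ((l ≫ k) ≫ y) (by simp only [Category.assoc, h]) i i' r r'
          (by rw [hr, Category.assoc]) (by rw [hr', Category.assoc]) (l ≫ k ≫ x) (l ≫ k ≫ y) hh hx2 hy2
          (rst (l ≫ k) t) (rst l t') (by show l ≫ t'.1 = 𝟙 T'' ≫ (l ≫ k) ≫ t.1; simp [ht])
        simp only [Category.id_comp] at e
        exact e.symm
      φ_self := fun T j x t => φ_eq _ _ _ _ _ fun {T'} k i i' r r' hr hr' => by
        show (rst k t).1 = _
        simp only [val]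
        rw [hcomp j i i' r r' (k ≫ x) hr hr', Equiv.symm_apply_apply]
      φ_comp := fun T j₀ j₁ j₂ x y z h h' t => (φ_eq x z (h.trans h') t (φ y z h' (φ x y h t)) (by
        intro T' k i i'' r r'' hr hr''
        refine hom_ext_of_mem (Precoverage.mem_coverings_of_isPullback (gj g j₁) (hcov j₁) (k ≫ y) _
          (fun i' => pullback.fst (gj g j₁ i') (k ≫ y))
          fun i' => (IsPullback.of_hasPullback (gj g j₁ i') (k ≫ y)).flip) _ _ fun i' => ?_
        let l := pullback.snd (gj g j₁ i') (k ≫ y)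
        show l ≫ _ = l ≫ _
        let r' := pullback.fst (gj g j₁ i') (k ≫ y)
        have hr' : r' ≫ gj g j₁ i' = (l ≫ k) ≫ y := pullback.condition.trans (Category.assoc _ _ _).symm
        have hk0 : (l ≫ r) ≫ gj g j₀ i = (l ≫ k) ≫ x := by rw [Category.assoc, hr]; simp
        have hk2 : (l ≫ r'') ≫ gj g j₂ i'' = (l ≫ k) ≫ z := by rw [Category.assoc, hr'']; simp
        have a1 := hφ x y h t (l ≫ k) i i' _ _ hk0 hr'
        have a2 := hφ y z h' (φ x y h t) (l ≫ k) i' i'' _ _ hr' hk2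
        have hxy : ((l ≫ k) ≫ x) ≫ v j₀ = ((l ≫ k) ≫ y) ≫ v j₁ := by simp only [Category.assoc, h]
        rw [show rst (l ≫ k) (φ x y h t) = val _ _ hxy i i' _ _ hk0 hr' (rst (l ≫ k) t) from
          Subtype.ext a1] at a2
        rw [← Category.assoc]
        have hxz : (k ≫ x) ≫ v j₀ = (k ≫ z) ≫ v j₂ := by simp only [Category.assoc, h, h']
        have hxz' : ((l ≫ k) ≫ x) ≫ v j₀ = ((l ≫ k) ≫ z) ≫ v j₂ := by simp only [Category.assoc, h, h']
        refine a2.trans (Eq.trans ?_ (val_nat l _ _ hxz i i'' r r'' hr hr'' _ _ hxz' hk0 hk2 (rst k t)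
          (rst (l ≫ k) t) (Category.assoc _ _ _)))
        simp only [val, Equiv.apply_symm_apply, D'.φ_comp])).symm }
  refine ⟨D, ?_⟩
  obtain ⟨a, -⟩ := PullRefine.nonempty_iso_of_lifts (D₁ := PullRefine.PD w D) (D₂ := D')
    (fun T i r => (liftsPullbackEquiv (W (α i)) (g i) r).trans
      (E (α i) ⟨i, rfl⟩ r (r ≫ g i) (by simp [gj]))) (by
      intro T T' k i r r₁ hr t t' ht
      subst hr
      refine hnat (α i) k ⟨i, rfl⟩ r _ _ _ _ _ _ ?_
      simp [liftsPullbackEquiv, ht]) (by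
      intro T i i' r r' h t
      simp only [Equiv.trans_apply, PullRefine.PD, pullDDFam, pullDDFamObj, Equiv.apply_symm_apply]
      let s := liftsPullbackEquiv (W (α i)) (g i) r t
      have hh : (r ≫ g i) ≫ v (α i) = (r' ≫ g i') ≫ v (α i') := by rw [Category.assoc, Category.assoc, w, w, h]
      have a1 := hφ (r ≫ g i) (r' ≫ g i') hh s (𝟙 T) ⟨i, rfl⟩ ⟨i', rfl⟩ r r' (by simp [gj]) (by simp [gj])
      have hs : (φ (r ≫ g i) (r' ≫ g i') hh s) = val _ _ hh ⟨i, rfl⟩ ⟨i', rfl⟩ r r' (by simp [gj]) (by simp [gj]) s := by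
        refine Subtype.ext (((Category.id_comp _).symm.trans a1).trans ?_)
        have hx2 : (𝟙 T ≫ r) ≫ gj g (α i) ⟨i, rfl⟩ = 𝟙 T ≫ r ≫ g i := by simp [gj]
        have hy2 : (𝟙 T ≫ r') ≫ gj g (α i') ⟨i', rfl⟩ = 𝟙 T ≫ r' ≫ g i' := by simp [gj]
        have e := val_nat (𝟙 T) (r ≫ g i) (r' ≫ g i') hh ⟨i, rfl⟩ ⟨i', rfl⟩ r r' (by simp [gj]) (by simp [gj])
          (𝟙 T ≫ r ≫ g i) (𝟙 T ≫ r' ≫ g i') (by simp only [Category.id_comp]; exact hh) hx2 hy2 s (rst (𝟙 T) s) rfl
        simpa only [Category.id_comp] using e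
      erw [Equiv.apply_symm_apply]
      exact (congrArg (E (α i') ⟨i', rfl⟩ r' (r' ≫ g i') (by simp [gj])) hs).trans (Equiv.apply_symm_apply _ _))
  exact ⟨a⟩

end Groth.Agent.Desc24.Refine
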