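import Groth.Agent.Desc24.Refine
import Groth.Agent.Desc24.AmpleOmega
import Groth.Agent.S7521

/-! Effectivity along towers of Zariski and finite locally free coverings. -/

set_option autoImplicit false
set_option linter.style.haveILetI false
set_option backward.isDefEq.respectTransparency false
set_option backward.isDefEq.respectTransparency.types false

universe u

open CategoryTheory CategoryTheory.Limits AlgebraicGeometry Desc
open Groth.Agent.Desc19b Groth.Agent.Desc19b.ZariskiRefine

namespace Groth.Agent.Desc24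

variable {S : Scheme.{u}} {ι κ : Type u} {U : ι → Scheme.{u}} {V : κ → Scheme.{u}} {u₀ : ∀ i, U i ⟶ S}
  {v : ∀ j, V j ⟶ S} {α : ι → κ} {g : ∀ i, U i ⟶ V (α i)} (w : ∀ i, g i ≫ v (α i) = u₀ i)

/-- Pullbacks of canonical data are canonical. -/
theorem nonempty_PD_canonical (W : Over S) :
    Nonempty (PullRefine.PD w ((toDDFam v).obj W) ≅ (toDDFam u₀).obj W) := by
  obtain ⟨a, -⟩ := PullRefine.nonempty_iso_of_lifts (D₁ := PullRefine.PD w ((toDDFam v).obj W))
    (D₂ := (toDDFam u₀).obj W) (fun T i x => (liftsPullbackEquiv _ (g i) x).trans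
    { toFun := fun t => ⟨pullback.lift x (t.1 ≫ pullback.snd (v (α i)) W.hom) (by
        have h : t.1 ≫ pullback.fst (v (α i)) W.hom = x ≫ g i := t.2
        rw [Category.assoc t.1, ← pullback.condition, ← Category.assoc t.1, h, Category.assoc, w]),
          pullback.lift_fst _ _ _⟩
      invFun := fun t => ⟨pullback.lift (x ≫ g i) (t.1 ≫ pullback.snd (u₀ i) W.hom) (by
        have h : t.1 ≫ pullback.fst (u₀ i) W.hom = x := t.2
        simp only [Category.assoc, ← pullback.condition]
        rw [← Category.assoc t.1, h, w]), pullback.lift_fst _ _ _⟩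
      left_inv := fun t => Subtype.ext (pullback.hom_ext ((pullback.lift_fst _ _ _).trans t.2.symm)
        (by erw [pullback.lift_snd, pullback.lift_snd]))
      right_inv := fun t => Subtype.ext (pullback.hom_ext ((pullback.lift_fst _ _ _).trans t.2.symm)
        (by erw [pullback.lift_snd, pullback.lift_snd])) }) (by
      intro T T' k i x y hy t t' ht
      subst hy
      apply pullback.hom_ext <;> simp [liftsPullbackEquiv, ht]) (by
      intro T i i' x x' h t
      apply Subtype.ext
      apply pullback.hom_ext <;> simp [liftsPullbackEquiv, PullRefine.PD, pullDDFam, pullDDFamObj, toDDFam, canonicalDDFam])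
  exact ⟨a⟩

/-- An isomorphism of descent data on points. -/
def pushEquiv {X : Scheme.{u}} {p : X ⟶ S} {D D' : SchDD p} (e : D ≅ D') {T : Scheme.{u}} (x : T ⟶ X) :
    Lifts D.obj x ≃ Lifts D'.obj x where
  toFun := e.hom.push
  invFun := e.inv.push
  left_inv t := Subtype.ext (by
    have h : (e.hom.hom ≫ e.inv.hom).left = 𝟙 _ :=
      congrArg (fun c : D ⟶ D => c.hom.left) e.hom_inv_id
    show (t.1 ≫ e.hom.hom.left) ≫ e.inv.hom.left = t.1
    rw [Category.assoc, ← Over.comp_left, h]
    exact Category.comp_id _)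
  right_inv t := Subtype.ext (by
    have h : (e.inv.hom ≫ e.hom.hom).left = 𝟙 _ :=
      congrArg (fun c : D' ⟶ D' => c.hom.left) e.inv_hom_id
    show (t.1 ≫ e.inv.hom.left) ≫ e.hom.hom.left = t.1
    rw [Category.assoc, ← Over.comp_left, h]
    exact Category.comp_id _)

theorem HasAmpleOmega.of_iso {b : Bool} {X : Scheme.{u}} {A B : Over X} (e : A ≅ B) (h : HasAmpleOmega b A.hom) :
    HasAmpleOmega b B.hom :=
  haveI : IsIso e.inv.left := ((Over.forget _).mapIso e).isIso_inv
  h.baseChange (a := e.inv.left) (g := 𝟙 X) (IsPullback.of_horiz_isIso ⟨by rw [Category.comp_id]; exact Over.w e.inv⟩)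

/-- A component of an isomorphism of descent data. -/
def appIso {D D' : SchDDFam u₀} (e : D ≅ D') (i : ι) : D.obj i ≅ D'.obj i where
  hom := e.hom.hom i
  inv := e.inv.hom i
  hom_inv_id := congrArg (fun c : D ⟶ D => c.hom i) e.hom_inv_id
  inv_hom_id := congrArg (fun c : D' ⟶ D' => c.hom i) e.inv_hom_id

/-- The property passes to the pullback of a member. -/
theorem HasAmpleOmega.of_PD_iso {b : Bool} {D : SchDDFam v} {D' : SchDDFam u₀} (e : PullRefine.PD w D ≅ D') (i : ι)
    (h : HasAmpleOmega b (D'.obj i).hom) : HasAmpleOmega b (pullback.snd (D.obj (α i)).hom (g i)) :=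
  h.of_iso (appIso e i).symm

/-- One member with an ample sheaf: effective along a finite locally free surjection. -/
theorem isEffective_restr {ι : Type u} {U V : ι → Scheme.{u}} {u₀ : ∀ i, U i ⟶ S} {v : ∀ i, V i ⟶ S}
    {g : ∀ i, U i ⟶ V i} (w : ∀ i, g i ≫ v i = u₀ i) (D' : SchDDFam u₀) (j : ι) {b : Bool}
    (hg : Mor2.IsFinLocFree (g j)) (hs : Surjective (g j)) (h : HasAmpleOmega b (D'.obj j).hom) :
    (restr (α := fun i => i) w D' j).IsEffective := by
  let p : U j ⟶ V j := gj (α := fun i => i) g j ⟨j, rfl⟩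
  have hp : p = g j := by simp [p, gj]
  haveI : IsFinite p := hp ▸ hg.1
  haveI : Flat p := hp ▸ hg.2.1
  haveI : LocallyOfFinitePresentation p := hp ▸ hg.2.2
  haveI : Surjective p := hp ▸ hs
  let D₁ : SchDD p :=
    { obj := D'.obj j
      φ := fun T x y e => (restr (α := fun i => i) w D' j).φ (i := ⟨j, rfl⟩) (j := ⟨j, rfl⟩) x y e
      φ_natural := fun T T' k x y e e' t t' ht =>
        (restr (α := fun i => i) w D' j).φ_natural k (i := ⟨j, rfl⟩) (j := ⟨j, rfl⟩) x y e _ _ rfl rfl e' t t' ht
      φ_self := fun T x t => (restr (α := fun i => i) w D' j).φ_self (i := ⟨j, rfl⟩) x t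
      φ_comp := fun T x y z e e' t => (restr (α := fun i => i) w D' j).φ_comp (i := ⟨j, rfl⟩) (j := ⟨j, rfl⟩) (k := ⟨j, rfl⟩) x y z e e' t }
  obtain ⟨W, ⟨e⟩⟩ := Groth.Agent.S7521.result p D₁ (tw b (Omega.sheaf (D'.obj j).hom)) h.2
  obtain ⟨a, -⟩ := PullRefine.nonempty_iso_of_lifts
    (D₁ := (toDDFam (gj (α := fun i => i) g j)).obj W) (D₂ := restr (α := fun i => i) w D' j)
    (fun T i => by
      obtain ⟨_, rfl⟩ := i
      exact fun x => pushEquiv e x) (by
      rintro T T' k ⟨_, rfl⟩ x y hy t t' ht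
      show t'.1 ≫ e.hom.hom.left = k ≫ t.1 ≫ e.hom.hom.left
      rw [ht, Category.assoc]) (by
      rintro T ⟨_, rfl⟩ ⟨_, rfl⟩ x y hxy t
      exact Subtype.ext (e.hom.comm x y hxy t (e.hom.push t) rfl).symm)
  exact ⟨W, ⟨a⟩⟩

/-- The single members of a refinement with the same index set cover. -/
theorem mem_singleton {ι : Type u} {U V : ι → Scheme.{u}} {g : ∀ i, U i ⟶ V i} (j : ι)
    (hg : Mor2.IsFinLocFree (g j)) (hs : Surjective (g j)) :
    Presieve.ofArrows (fun i : {i // i = j} => U i.1) (gj (α := fun i => i) g j) ∈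
      Scheme.fpqcPrecoverage (V j) := by
  haveI : ∀ i : {i // i = j}, IsFinite (gj (α := fun i => i) g j i) := by
    rintro ⟨_, rfl⟩; simpa [gj] using hg.1
  haveI : ∀ i : {i // i = j}, Flat (gj (α := fun i => i) g j i) := by
    rintro ⟨_, rfl⟩; simpa [gj] using hg.2.1
  haveI : Finite {i // i = j} := Finite.of_subsingleton
  refine Quot.finite_family_mem _ fun y => ?_
  obtain ⟨z, hz⟩ := (g j).surjective y
  exact ⟨⟨j, rfl⟩, z, by simpa [gj] using hz⟩

end Groth.Agent.Desc24
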